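import Mathlib
import Groth.Agent.S0596
import Groth.Agent.CohenLib.PSHom
import Groth.Agent.CompleteLib.CompletionHom
import Groth.Agent.AdicRingLib.Completion

/-! Retractions realizing a factorization of a node parameter, by Artin approximation. -/

set_option autoImplicit false
set_option maxHeartbeats 1600000

universe u

open IsLocalRing

namespace NodeRetract

section UFD

variable {O : Type u} [CommRing O] [IsDomain O] [UniqueFactorizationMonoid O]

theorem exists_finite_divisors {Δ : O} (hΔ : Δ ≠ 0) :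
    ∃ S : Finset O, ∀ d, d ∣ Δ → ∃ s ∈ S, Associated d s := by
  classical
  induction Δ using UniqueFactorizationMonoid.induction_on_prime with
  | h₁ => exact absurd rfl hΔ
  | h₂ a ha => exact ⟨{1}, fun d hd => ⟨1, by simp, associated_one_iff_isUnit.2 (isUnit_of_dvd_unit hd ha)⟩⟩
  | h₃ a p ha hp ih =>
    obtain ⟨S, hS⟩ := ih ha
    refine ⟨S ∪ S.image (p * ·), fun d hd => ?_⟩
    by_cases hpd : p ∣ d
    · obtain ⟨d', rfl⟩ := hpd
      obtain ⟨s, hs, has⟩ := hS d' ((mul_dvd_mul_iff_left hp.ne_zero).1 hd)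
      exact ⟨p * s, Finset.mem_union_right _ (Finset.mem_image_of_mem _ hs), has.mul_left p⟩
    · obtain ⟨s, hs, has⟩ := hS d (((hp.irreducible.isRelPrime_iff_not_dvd.2 hpd).symm).dvd_of_dvd_mul_left hd)
      exact ⟨s, Finset.mem_union_left _ hs, has⟩

theorem exists_pow_of_notMem {O : Type u} [CommRing O] [IsNoetherianRing O] [IsLocalRing O] {I : Ideal O} {t : O}
    (h : t ∉ I) : ∃ N, t ∉ I ⊔ maximalIdeal O ^ N := by
  by_contra hc
  push Not at hc
  have hI : I ≠ ⊤ := fun hI => h (hI ▸ Submodule.mem_top)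
  haveI : Nontrivial (O ⧸ I) := Ideal.Quotient.nontrivial_iff.2 hI
  haveI : IsLocalRing (O ⧸ I) := IsLocalRing.of_surjective' _ Ideal.Quotient.mk_surjective
  haveI := isNoetherianRing_of_surjective O (O ⧸ I) (Ideal.Quotient.mk I) Ideal.Quotient.mk_surjective
  have hle : (maximalIdeal O).map (Ideal.Quotient.mk I) ≤ maximalIdeal (O ⧸ I) :=
    haveI : IsLocalHom (Ideal.Quotient.mk I) := IsLocalHom.of_surjective _ Ideal.Quotient.mk_surjective
    IsLocalRing.map_maximalIdeal_le _
  refine h (Ideal.Quotient.eq_zero_iff_mem.1 ?_)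
  have hmem : Ideal.Quotient.mk I t ∈ ⨅ N : ℕ, maximalIdeal (O ⧸ I) ^ N := Submodule.mem_iInf _ |>.2 fun N => by
    have h1 := Ideal.mem_map_of_mem (Ideal.Quotient.mk I) (hc N)
    rw [Ideal.map_sup, Ideal.map_quotient_self, bot_sup_eq, Ideal.map_pow] at h1
    exact Ideal.pow_right_mono hle N h1
  rwa [Ideal.iInf_pow_eq_bot_of_isLocalRing _ (maximalIdeal.isMaximal _).ne_top, Submodule.mem_bot] at hmem

/-- Approximate factorizations of `Δ` are factorizations of the same type. -/
theorem exists_bound [IsNoetherianRing O] [IsLocalRing O] {t₁ t₂ Δ : O} (hΔ : Δ ≠ 0) (ht : t₁ * t₂ = Δ) :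
    ∃ N, ∀ a b : O, a * b = Δ → a - t₁ ∈ maximalIdeal O ^ N → b - t₂ ∈ maximalIdeal O ^ N →
      Ideal.span {a} = Ideal.span {t₁} ∧ Ideal.span {b} = Ideal.span {t₂} := by
  classical
  obtain ⟨S, hS⟩ := exists_finite_divisors hΔ
  have hs : ∀ s ∈ S, ∃ N, ∀ a b : O, a * b = Δ → Associated a s → a - t₁ ∈ maximalIdeal O ^ N →
      b - t₂ ∈ maximalIdeal O ^ N → Ideal.span {a} = Ideal.span {t₁} ∧ Ideal.span {b} = Ideal.span {t₂} := by
    intro s _
    by_cases he : ∃ e, s * e = Δ
    swap
    · exact ⟨0, fun a b hab has _ _ => absurd (show s ∣ Δ from has.dvd_iff_dvd_left.1 ⟨b, hab.symm⟩)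
        (fun ⟨e, h⟩ => he ⟨e, h.symm⟩)⟩
    obtain ⟨e, he⟩ := he
    have hbe : ∀ a b : O, a * b = Δ → Associated a s → Associated b e := fun a b hab has => by
      exact Associated.of_mul_left (a := a) (c := s) (Associated.of_eq (hab.trans he.symm)) has (left_ne_zero_of_mul (hab ▸ hΔ))
    by_cases h1 : t₁ ∈ Ideal.span ({s} : Set O)
    swap
    · obtain ⟨N, hN⟩ := exists_pow_of_notMem h1
      refine ⟨N, fun a b hab has ha _ => absurd ?_ hN⟩
      rw [← sub_sub_cancel a t₁]
      exact sub_mem (Ideal.mem_sup_left (Ideal.mem_span_singleton.2 has.symm.dvd)) (Ideal.mem_sup_right ha)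
    by_cases h2 : t₂ ∈ Ideal.span ({e} : Set O)
    swap
    · obtain ⟨N, hN⟩ := exists_pow_of_notMem h2
      refine ⟨N, fun a b hab has _ hb => absurd ?_ hN⟩
      rw [← sub_sub_cancel b t₂]
      exact sub_mem (Ideal.mem_sup_left (Ideal.mem_span_singleton.2 (hbe a b hab has).symm.dvd)) (Ideal.mem_sup_right hb)
    obtain ⟨x, hx⟩ := Ideal.mem_span_singleton.1 h1
    obtain ⟨y, hy⟩ := Ideal.mem_span_singleton.1 h2
    have hxy : x * y = 1 := mul_left_cancel₀ hΔ (by
      calc Δ * (x * y) = (s * x) * (e * y) := by rw [← he]; ring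
        _ = Δ * 1 := by rw [← hx, ← hy, ht, mul_one])
    refine ⟨0, fun a b hab has _ _ => ⟨?_, ?_⟩⟩
    · exact Ideal.span_singleton_eq_span_singleton.2 (has.trans ⟨(IsUnit.of_mul_eq_one y hxy).unit, hx.symm⟩)
    · exact Ideal.span_singleton_eq_span_singleton.2 ((hbe a b hab has).trans
        ⟨(IsUnit.of_mul_eq_one x (by rw [mul_comm, hxy])).unit, hy.symm⟩)
  choose N hN using hs
  refine ⟨S.attach.sup fun s => N s.1 s.2, fun a b hab ha hb => ?_⟩
  obtain ⟨s, hsS, has⟩ := hS a ⟨b, hab.symm⟩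
  have hle : N s hsS ≤ S.attach.sup fun s => N s.1 s.2 :=
    Finset.le_sup (f := fun s : S => N s.1 s.2) (Finset.mem_attach S ⟨s, hsS⟩)
  exact hN s hsS a b hab has (Ideal.pow_le_pow_right hle ha) (Ideal.pow_le_pow_right hle hb)

end UFD

open MvPowerSeries in
theorem exists_retraction (R : Type u) [CommRing R] [IsNoetherianRing R] [HenselianLocalRing R]
    (hG : CAlg.IsGRing R)
    [IsDomain (AdicCompletion (maximalIdeal R) R)] [UniqueFactorizationMonoid (AdicCompletion (maximalIdeal R) R)]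
    (Δ t₁ t₂ : R) (hΔ : algebraMap R (AdicCompletion (maximalIdeal R) R) Δ ≠ 0)
    (ht₁ : t₁ ∈ maximalIdeal R) (ht₂ : t₂ ∈ maximalIdeal R) (ht : t₁ * t₂ = Δ)
    (C : Type u) [CommRing C] [IsLocalRing C] [Algebra R C] [IsLocalHom (algebraMap R C)]
    [Algebra.EssFiniteType R C]
    (ψ : AdicCompletion (maximalIdeal C) C ≃+*
      (MvPowerSeries (Fin 2) (AdicCompletion (maximalIdeal R) R) ⧸
        Ideal.span {(X 0 * X 1 - MvPowerSeries.C (algebraMap R (AdicCompletion (maximalIdeal R) R) Δ) :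
          MvPowerSeries (Fin 2) (AdicCompletion (maximalIdeal R) R))}))
    (hψ : ψ.toRingHom.comp ((algebraMap C (AdicCompletion (maximalIdeal C) C)).comp (algebraMap R C)) =
      (Ideal.Quotient.mk _).comp ((MvPowerSeries.C : AdicCompletion (maximalIdeal R) R →+*
        MvPowerSeries (Fin 2) (AdicCompletion (maximalIdeal R) R)).comp
          (algebraMap R (AdicCompletion (maximalIdeal R) R)))) :
    ∃ (g : C →ₐ[R] R) (ĝ : AdicCompletion (maximalIdeal C) C →+* AdicCompletion (maximalIdeal R) R),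
      ĝ.comp (algebraMap C (AdicCompletion (maximalIdeal C) C)) =
        (algebraMap R (AdicCompletion (maximalIdeal R) R)).comp g.toRingHom ∧
      Ideal.span {ĝ (ψ.symm (Ideal.Quotient.mk _ (X 0)))} =
        Ideal.span {algebraMap R (AdicCompletion (maximalIdeal R) R) t₁} ∧
      Ideal.span {ĝ (ψ.symm (Ideal.Quotient.mk _ (X 1)))} =
        Ideal.span {algebraMap R (AdicCompletion (maximalIdeal R) R) t₂} := by
  classical
  haveI : IsNoetherianRing C := Algebra.EssFiniteType.isNoetherianRing R C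
  haveI := AdicRingLib.isNoetherianRing_adicCompletion (maximalIdeal R)
  have hfgR : (maximalIdeal R).FG := (maximalIdeal R).fg_of_isNoetherianRing
  have hfgC : (maximalIdeal C).FG := (maximalIdeal C).fg_of_isNoetherianRing
  have hpow : ∀ n, maximalIdeal (AdicCompletion (maximalIdeal R) R) ^ n =
      (maximalIdeal R ^ n).map (algebraMap R (AdicCompletion (maximalIdeal R) R)) := fun n => by
    rw [AdicCompletion.maximalIdeal_eq_map, Ideal.map_pow]
  haveI : IsAdicComplete (maximalIdeal (AdicCompletion (maximalIdeal R) R)) (AdicCompletion (maximalIdeal R) R) := by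
    rw [AdicCompletion.maximalIdeal_eq_map]
    exact AdicRingLib.isAdicComplete_map hfgR
  let ι := algebraMap R (AdicCompletion (maximalIdeal R) R)
  let J := maximalIdeal (AdicCompletion (maximalIdeal R) R)
  have hιm : ∀ r ∈ maximalIdeal R, ι r ∈ J := fun r hr => by
    show _ ∈ maximalIdeal (AdicCompletion (maximalIdeal R) R)
    rw [AdicCompletion.maximalIdeal_eq_map]; exact Ideal.mem_map_of_mem _ hr
  -- the formal point
  have hx : ∀ i : Fin 2, ![ι t₁, ι t₂] i ∈ J := fun i => by fin_cases i; exacts [hιm _ ht₁, hιm _ ht₂]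
  let ev := CohenLib.psHom J (RingHom.id (AdicCompletion (maximalIdeal R) R)) ![ι t₁, ι t₂] hx
  let evq := Ideal.Quotient.lift (Ideal.span {(X 0 * X 1 - MvPowerSeries.C (ι Δ) :
      MvPowerSeries (Fin 2) (AdicCompletion (maximalIdeal R) R))}) ev fun x hx => by
    obtain ⟨y, rfl⟩ := Ideal.mem_span_singleton.1 hx
    rw [map_mul, map_sub, map_mul, CohenLib.psHom_X, CohenLib.psHom_X, CohenLib.psHom_C, RingHom.id_apply]
    simp [← map_mul, ι, ht]
  let hhat : AdicCompletion (maximalIdeal C) C →+* AdicCompletion (maximalIdeal R) R := evq.comp ψ.toRingHom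
  have hsurj : Function.Surjective hhat := fun z => ⟨ψ.symm (Ideal.Quotient.mk _ (MvPowerSeries.C z)), by
    show evq (ψ (ψ.symm _)) = z
    rw [ψ.apply_symm_apply]
    exact CohenLib.psHom_C J _ _ hx z⟩
  haveI : IsLocalHom hhat := IsLocalHom.of_surjective _ hsurj
  have hhm : ∀ x ∈ maximalIdeal (AdicCompletion (maximalIdeal C) C), hhat x ∈ J := fun x hx => map_nonunit hhat x hx
  let h0 : C →+* AdicCompletion (maximalIdeal R) R := hhat.comp (algebraMap C (AdicCompletion (maximalIdeal C) C))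
  have hh0R : ∀ r, h0 (algebraMap R C r) = ι r := fun r => by
    show evq (ψ (algebraMap C _ (algebraMap R C r))) = ι r
    rw [show ψ (algebraMap C _ (algebraMap R C r)) = _ from RingHom.congr_fun hψ r]
    exact CohenLib.psHom_C J _ _ hx _
  have hh0m : ∀ c ∈ maximalIdeal C, h0 c ∈ J := fun c hc => hhm _ (by
    rw [AdicCompletion.maximalIdeal_eq_map]; exact Ideal.mem_map_of_mem _ hc)
  -- the bound
  obtain ⟨N₀, hN₀⟩ := exists_bound hΔ (show ι t₁ * ι t₂ = ι Δ by rw [← map_mul, ht])
  let N := N₀ + 1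
  -- approximation on a model of finite type
  let P := Algebra.EssFiniteType.subalgebra R C
  obtain ⟨n, f, hf⟩ := Algebra.FiniteType.iff_quotient_mvPolynomial''.mp (inferInstance : Algebra.FiniteType R P)
  obtain ⟨s, hs⟩ := IsNoetherian.noetherian (RingHom.ker f.toRingHom)
  let F : Fin s.card → MvPolynomial (Fin n) R := fun j => (s.equivFin.symm j).1
  let a : Fin n → AdicCompletion (maximalIdeal R) R := fun i => h0 (f (MvPolynomial.X i) : C)
  have ha' : ∀ q : MvPolynomial (Fin n) R, MvPolynomial.eval a (MvPolynomial.map ι q) = h0 (f q : C) := by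
    intro q
    rw [MvPolynomial.eval_map]
    induction q using MvPolynomial.induction_on with
    | C r =>
      rw [MvPolynomial.eval₂_C, ← MvPolynomial.algebraMap_eq, f.commutes]
      exact (hh0R r).symm
    | add p q hp hq => rw [MvPolynomial.eval₂_add, hp, hq, map_add, Subalgebra.coe_add, map_add]
    | mul_X p i hp => rw [MvPolynomial.eval₂_mul, hp, MvPolynomial.eval₂_X, map_mul, Subalgebra.coe_mul, map_mul]
  obtain ⟨b, hb, hab⟩ := Groth.Agent.S0596.result R hG n s.card F a (fun j => by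
    rw [ha', show f (F j) = 0 from (show F j ∈ RingHom.ker f.toRingHom from hs ▸ Submodule.subset_span (s.equivFin.symm j).2)]
    simp) N
  have hker : ∀ q ∈ RingHom.ker f.toRingHom, MvPolynomial.eval b q = 0 := by
    have : RingHom.ker f.toRingHom ≤ RingHom.ker (MvPolynomial.eval b) := by
      rw [← hs, Submodule.span_le]
      intro q hq
      have := hb (s.equivFin ⟨q, hq⟩)
      simpa [F] using this
    exact fun q hq => this hq
  let gP : P →+* R := f.toRingHom.liftOfSurjective hf ⟨MvPolynomial.eval b, hker⟩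
  have hgP : ∀ q, gP (f q) = MvPolynomial.eval b q := fun q => RingHom.liftOfSurjective_comp_apply _ _ _ q
  have hclose : ∀ p : P, ι (gP p) - h0 (p : C) ∈ J ^ N := by
    intro p
    obtain ⟨q, rfl⟩ := hf p
    rw [hgP, ← ha', MvPolynomial.eval_map]
    induction q using MvPolynomial.induction_on with
    | C r => simp [ι]
    | add p q hp hq =>
      rw [map_add, map_add, MvPolynomial.eval₂_add, add_sub_add_comm]
      exact add_mem hp hq
    | mul_X p i hp =>
      rw [map_mul, MvPolynomial.eval_X, map_mul, MvPolynomial.eval₂_mul, MvPolynomial.eval₂_X]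
      have h1 : a i - ι (b i) ∈ J ^ N := by
        show _ ∈ maximalIdeal (AdicCompletion (maximalIdeal R) R) ^ N
        rw [hpow]; exact hab i
      rw [show ι (MvPolynomial.eval b p) * ι (b i) - MvPolynomial.eval₂ ι a p * a i =
        (ι (MvPolynomial.eval b p) - MvPolynomial.eval₂ ι a p) * ι (b i) - MvPolynomial.eval₂ ι a p * (a i - ι (b i)) by ring]
      exact sub_mem (Ideal.mul_mem_right _ _ hp) (Ideal.mul_mem_left _ _ h1)
  have hNJ : J ^ N ≤ J := Ideal.pow_le_self (by omega)
  have hunit : ∀ y : Algebra.EssFiniteType.submonoid R C, IsUnit (gP y) := by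
    intro y
    by_contra hu
    have h1 : h0 ((y : P) : C) ∈ J := by
      rw [← sub_sub_cancel (ι (gP y)) (h0 ((y : P) : C))]
      exact sub_mem (hιm _ hu) (hNJ (hclose y))
    exact h1 ((show IsUnit ((y : P) : C) from y.2).map h0)
  let g0 : C →+* R := IsLocalization.lift (M := Algebra.EssFiniteType.submonoid R C) (g := gP) hunit
  have hg0P : ∀ p : P, g0 (p : C) = gP p := fun p => IsLocalization.lift_eq _ p
  let g : C →ₐ[R] R := AlgHom.mk g0 fun r => by
    show g0 (algebraMap R C r) = r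
    rw [show algebraMap R C r = ((algebraMap R P r : P) : C) from rfl, hg0P,
      show (algebraMap R P r) = f (MvPolynomial.C r) from (f.commutes r).symm, hgP, MvPolynomial.eval_C]
  have hcloseC : ∀ c : C, ι (g0 c) - h0 c ∈ J ^ N := by
    intro c
    obtain ⟨p, y, rfl⟩ := IsLocalization.exists_mk'_eq (Algebra.EssFiniteType.submonoid R C) c
    let c := IsLocalization.mk' C p y
    have hspec : c * ((y : P) : C) = (p : C) := IsLocalization.mk'_spec C p y
    have hu : IsUnit (h0 ((y : P) : C)) := (show IsUnit ((y : P) : C) from y.2).map h0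
    refine (Ideal.mul_unit_mem_iff_mem _ hu).1 ?_
    have h1 : (ι (g0 c) - h0 c) * h0 ((y : P) : C) =
        (ι (gP p) - h0 (p : C)) - ι (g0 c) * (ι (gP y) - h0 ((y : P) : C)) := by
      rw [← hg0P p, ← hg0P y, ← hspec]
      simp only [map_mul]
      ring
    rw [h1]
    exact sub_mem (hclose p) (Ideal.mul_mem_left _ _ (hclose y))
  have hgloc : (maximalIdeal C).map (ι.comp g0) ≤ J := Ideal.map_le_iff_le_comap.2 fun c hc => by
    show ι (g0 c) ∈ J
    rw [← sub_add_cancel (ι (g0 c)) (h0 c)]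
    exact add_mem (hNJ (hcloseC c)) (hh0m c hc)
  let ghat : AdicCompletion (maximalIdeal C) C →+* AdicCompletion (maximalIdeal R) R :=
    CompleteLib.completionLift (maximalIdeal C) J (ι.comp g0) hgloc
  have hghat : ∀ c, ghat (algebraMap C _ c) = ι (g0 c) := fun c => CompleteLib.completionLift_algebraMap _ _ _ _ c
  have hall : ∀ x, ghat x - hhat x ∈ J ^ N := by
    intro x
    obtain ⟨c, hc⟩ := AdicRingLib.exists_sub_mem_map_pow hfgC N x
    have hmap : ∀ φ : AdicCompletion (maximalIdeal C) C →+* AdicCompletion (maximalIdeal R) R,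
        (∀ z ∈ maximalIdeal C, φ (algebraMap C _ z) ∈ J) → φ (x - algebraMap C _ c) ∈ J ^ N := by
      intro φ hφ
      have h2 := Ideal.mem_map_of_mem φ hc
      rw [Ideal.map_map, Ideal.map_pow] at h2
      exact Ideal.pow_right_mono (Ideal.map_le_iff_le_comap.2 hφ) N h2
    have h3 := hmap ghat fun z hz => by rw [hghat]; exact hgloc (Ideal.mem_map_of_mem (ι.comp g0) hz)
    have h4 := hmap hhat hh0m
    have h5 : ghat x - hhat x = ghat (x - algebraMap C _ c) - hhat (x - algebraMap C _ c) + (ι (g0 c) - h0 c) := by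
      rw [map_sub, map_sub, hghat]
      show _ = _ + (ι (g0 c) - hhat (algebraMap C _ c))
      ring
    rw [h5]
    exact add_mem (sub_mem h3 h4) (hcloseC c)
  refine ⟨g, ghat, RingHom.ext fun c => hghat c, ?_⟩
  have hX : ∀ i, hhat (ψ.symm (Ideal.Quotient.mk _ (X i))) = ![ι t₁, ι t₂] i := fun i => by
    show evq (ψ (ψ.symm _)) = _
    rw [ψ.apply_symm_apply]
    exact CohenLib.psHom_X J _ _ hx i
  have hle : J ^ N ≤ J ^ N₀ := Ideal.pow_le_pow_right (by omega)
  refine hN₀ _ _ ?_ ?_ ?_
  · have hC : ψ.symm (Ideal.Quotient.mk _ (MvPowerSeries.C (algebraMap R (AdicCompletion (maximalIdeal R) R) Δ))) = algebraMap C _ (algebraMap R C Δ) := by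
      rw [RingEquiv.symm_apply_eq]
      exact (RingHom.congr_fun hψ Δ).symm
    rw [← map_mul, ← map_mul, ← map_mul]
    refine (congrArg ghat ((congrArg ψ.symm (Ideal.Quotient.eq.2 ?_)).trans hC)).trans ((hghat _).trans ?_)
    · exact Ideal.mem_span_singleton_self _
    exact congrArg ι (g.commutes Δ)
  · have := hle (hall (ψ.symm (Ideal.Quotient.mk _ (X 0))))
    rwa [hX] at this
  · have := hle (hall (ψ.symm (Ideal.Quotient.mk _ (X 1))))
    rwa [hX] at this

end NodeRetract
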